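/-
If every covering sieve of the final object of a small étale site contains a split member, then
global sections are exact and étale cohomology vanishes in positive degrees.
-/
import Groth.Prelude.Def_EtBase
import Mathlib

set_option autoImplicit false
set_option backward.isDefEq.respectTransparency false

universe u

open CategoryTheory CategoryTheory.Limits AlgebraicGeometry Opposite

namespace Groth.Agent.EtSplitLib

/-- The final object of the small étale site. -/
noncomputable def isTerminalTop (S : Scheme.{u}) : IsTerminal (EtCoh.top S) :=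
  MorphismProperty.Over.mkIdTerminal _ S

/-- Cohomology vanishes in positive degrees as soon as global sections preserve epimorphisms. -/
theorem subsingleton_H_of_sections_surjective (S : Scheme.{u})
    (h : ∀ {G G' : EtCoh.Ab S} (e : G ⟶ G') [Epi e],
      Function.Surjective (e.hom.app (op (EtCoh.top S))))
    (F : EtCoh.Ab S) (p : ℕ) (hp : 1 ≤ p) : Subsingleton (EtCoh.H S F p) := by
  obtain ⟨q, rfl⟩ : ∃ q, p = q + 1 := ⟨p - 1, by omega⟩
  let A : AddCommGrpCat.{u + 1} := AddCommGrpCat.of (ULift.{u + 1} ℤ)
  let adj := constantSheafAdj S.smallEtaleTopology AddCommGrpCat.{u + 1} (isTerminalTop S)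
  haveI : Projective ((constantSheaf S.smallEtaleTopology AddCommGrpCat.{u + 1}).obj A) := by
    constructor
    intro G' G f e _
    obtain ⟨t, ht⟩ := h e (AddCommGrpCat.uliftZMultiplesAddEquiv _ (adj.homEquiv A G f))
    refine ⟨(adj.homEquiv A G').symm ((AddCommGrpCat.uliftZMultiplesAddEquiv _).symm t), ?_⟩
    apply (adj.homEquiv A G).injective
    rw [Adjunction.homEquiv_naturality_right, Equiv.apply_symm_apply]
    apply (AddCommGrpCat.uliftZMultiplesAddEquiv _).injective
    have key : ∀ {M N : AddCommGrpCat.{u + 1}} (g : A ⟶ M) (k : M ⟶ N),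
        AddCommGrpCat.uliftZMultiplesAddEquiv N (g ≫ k) =
          k (AddCommGrpCat.uliftZMultiplesAddEquiv M g) := fun g k => rfl
    refine (key _ _).trans ?_
    refine (congrArg _ (AddEquiv.apply_symm_apply _ t)).trans ?_
    exact ht
  exact Abelian.Ext.subsingleton_of_projective _ _ q

/-- Cohomology vanishes in positive degrees if every covering sieve of the final object is trivial. -/
theorem subsingleton_H_of_covers_trivial (S : Scheme.{u})
    (h : ∀ R ∈ S.smallEtaleTopology (EtCoh.top S), R (𝟙 (EtCoh.top S)))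
    (F : EtCoh.Ab S) (p : ℕ) (hp : 1 ≤ p) : Subsingleton (EtCoh.H S F p) := by
  refine subsingleton_H_of_sections_surjective S (fun {G G'} e _ s => ?_) F p hp
  haveI : Sheaf.IsLocallySurjective e := (Sheaf.isLocallySurjective_iff_epi' _ e).2 inferInstance
  obtain ⟨t, ht⟩ := h _ (Presheaf.imageSieve_mem S.smallEtaleTopology e.hom s)
  exact ⟨t, by simpa using ht⟩

/-- A covering sieve of the final object has a member through any given point. -/
theorem exists_member (S : Scheme.{u}) (R : Sieve (EtCoh.top S))
    (hR : R ∈ S.smallEtaleTopology (EtCoh.top S)) (x : S) :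
    ∃ (Y : S.Etale) (f : Y ⟶ EtCoh.top S) (y : Y.left), R f ∧ Y.hom y = x := by
  have e : S.smallEtaleTopology = (S.smallPretopology (P := EtCoh.etaleMP) (Q := EtCoh.etaleMP)).toGrothendieck :=
    Scheme.smallGrothendieckTopology_eq_toGrothendieck_smallPretopology S le_rfl
  rw [e] at hR
  obtain ⟨Y, f, y, hf, -, hy⟩ := (Scheme.mem_toGrothendieck_smallPretopology _ R).1 hR x
  refine ⟨Y, f, y, hf, ?_⟩
  have hw : f.left ≫ (EtCoh.top S).hom = Y.hom := MorphismProperty.Over.w f
  rw [← hw]
  exact hy

/-- A member with a section makes the sieve trivial. -/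
theorem id_mem_of_section {S : Scheme.{u}} {R : Sieve (EtCoh.top S)} {Y : S.Etale}
    {f : Y ⟶ EtCoh.top S} (hf : R f) (σ : S ⟶ Y.left) (hσ : σ ≫ Y.hom = 𝟙 S) :
    R (𝟙 (EtCoh.top S)) := by
  let g : EtCoh.top S ⟶ Y := MorphismProperty.Over.homMk σ (by simpa using hσ)
  rw [(isTerminalTop S).hom_ext (𝟙 (EtCoh.top S)) (g ≫ f)]
  exact R.downward_closed hf g

end Groth.Agent.EtSplitLib
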