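/-
Affine schemes all of whose points are closed, with separably closed residue fields: epimorphisms of
étale sheaves are surjective on global sections.
-/
import Groth.Agent.EtSplitLib.Basic
import Groth.Agent.Hensel.Sections
import Groth.Agent.EtPtsLib.Conditions
import Groth.Agent.SpreadOut.Basic

set_option autoImplicit false
set_option backward.isDefEq.respectTransparency false
set_option backward.isDefEq.respectTransparency.types false

universe u

open CategoryTheory CategoryTheory.Limits AlgebraicGeometry Opposite TopologicalSpace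

namespace Groth.Agent.EtSplitLib

/-- A local ring of dimension zero is henselian. -/
theorem henselianLocalRing_of_isNilpotent {A : Type u} [CommRing A] [IsLocalRing A]
    (h : ∀ a ∈ IsLocalRing.maximalIdeal A, IsNilpotent a) : HenselianLocalRing A where
  is_henselian f _ a₀ h₀ h₁ := by
    obtain ⟨r, ⟨hr, hr'⟩, -⟩ := Polynomial.existsUnique_nilpotent_sub_and_aeval_eq_zero
      (P := f) (x := a₀) (h _ (by simpa using h₀)) (by simpa using h₁)
    refine ⟨r, by simpa [Polynomial.IsRoot] using hr', ?_⟩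
    rw [← neg_sub]
    obtain ⟨m, hm⟩ := hr
    exact (IsLocalRing.maximalIdeal A).neg_mem
      ((IsLocalRing.maximalIdeal.isMaximal A).isPrime.mem_of_pow_mem m (hm ▸ Ideal.zero_mem _))

variable (S : Scheme.{u}) (h1 : ∀ s : S, IsClosed ({s} : Set S))

include h1 in
/-- The local rings of a scheme whose points are closed are henselian. -/
theorem henselianLocalRing_stalk (s : S) : HenselianLocalRing (S.presheaf.stalk s) := by
  refine henselianLocalRing_of_isNilpotent fun a ha => ?_
  rw [nilpotent_iff_mem_prime]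
  intro J hJ
  have hle : ∀ q : Spec (S.presheaf.stalk s), S.fromSpecStalk s q = s := fun q => by
    have hq : S.fromSpecStalk s q ∈ Set.range (S.fromSpecStalk s) := ⟨q, rfl⟩
    rw [Scheme.range_fromSpecStalk] at hq
    exact (Set.mem_singleton_iff.1 (hq.mem_closed (h1 _) rfl)).symm
  have : (⟨J, hJ⟩ : Spec (S.presheaf.stalk s)) = IsLocalRing.closedPoint _ :=
    (S.fromSpecStalk s).injective ((hle _).trans (hle _).symm)
  have := congrArg PrimeSpectrum.asIdeal this
  exact (SetLike.ext_iff.1 this a).2 ha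

include h1 in
/-- Basic opens of an affine scheme whose points are closed are closed. -/
theorem isClosed_basicOpen [IsAffine S] (g : Γ(S, ⊤)) : IsClosed (S.basicOpen g : Set S) := by
  have h : IsClosed ((PrimeSpectrum.basicOpen g : TopologicalSpace.Opens (PrimeSpectrum Γ(S, ⊤))) :
      Set (PrimeSpectrum Γ(S, ⊤))) := by
    refine PrimeSpectrum.isClosed_of_stableUnderSpecialization_of_isConstructible ?_
      PrimeSpectrum.isConstructible_basicOpen
    intro x y hxy hx
    have he : IsClosed ({S.isoSpec.inv x} : Set S) := h1 _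
    have hy : S.isoSpec.inv y ∈ ({S.isoSpec.inv x} : Set S) :=
      (hxy.map S.isoSpec.inv.continuous).mem_closed he rfl
    rwa [S.isoSpec.inv.homeomorph.injective (Set.mem_singleton_iff.1 hy)]
  rw [← S.toSpecΓ_preimage_basicOpen g]
  exact h.preimage S.toSpecΓ.continuous

variable (h2 : ∀ s : S, IsSepClosed (S.residueField s))

include h1 h2 in
/-- A covering sieve of the final object contains the inclusion of a basic open around every point. -/
theorem exists_basicOpen_mem [IsAffine S] (R : Sieve (EtCoh.top S))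
    (hR : R ∈ S.smallEtaleTopology (EtCoh.top S)) (s : S) :
    ∃ g : Γ(S, ⊤), s ∈ S.basicOpen g ∧
      R (EtPtsLib.openIncl (EtCoh.top S) (S.basicOpen g)) := by
  obtain ⟨Y, f, y, hf, hy⟩ := exists_member S R hR s
  haveI : Etale Y.hom := Y.prop
  haveI := henselianLocalRing_stalk S h1 s
  haveI : IsSepClosed (IsLocalRing.ResidueField (S.presheaf.stalk s)) := h2 s
  obtain ⟨t, ht1, ht2⟩ := Scheme.Pullback.exists_preimage_pullback (f := Y.hom) (g := S.fromSpecStalk s) y
    (IsLocalRing.closedPoint (S.presheaf.stalk s)) (hy.trans Scheme.fromSpecStalk_closedPoint.symm)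
  obtain ⟨u, hu, -⟩ := Hensel.exists_section_of_etale (A := S.presheaf.stalk s)
    (pullback.snd Y.hom (S.fromSpecStalk s)) t ht2
  obtain ⟨U, hsU, φ, -, hφ⟩ := SpreadOut.spread_out' (X := S) (S := S) (𝟙 S) Y.hom (x := s)
    (u ≫ pullback.fst Y.hom (S.fromSpecStalk s)) (by
      rw [Category.assoc, pullback.condition, reassoc_of% hu, Category.comp_id])
  obtain ⟨g, hgU, hsg⟩ := (isAffineOpen_top S).exists_basicOpen_le (V := U) ⟨s, hsU⟩ trivial
  refine ⟨g, hsg, ?_⟩
  let k : EtPtsLib.openSub (EtCoh.top S) (S.basicOpen g) ⟶ Y :=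
    MorphismProperty.Over.homMk (S.homOfLE hgU ≫ φ) (by
      show (S.homOfLE hgU ≫ φ) ≫ Y.hom = (S.basicOpen g).ι ≫ 𝟙 S
      rw [Category.assoc, hφ]
      simp)
  rw [(isTerminalTop S).hom_ext (EtPtsLib.openIncl (EtCoh.top S) (S.basicOpen g)) (k ≫ f)]
  exact R.downward_closed hf k

include h1 h2 in
/-- Epimorphisms of étale sheaves are surjective on global sections. -/
theorem sections_surjective_of_closedPoints [IsAffine S] {G G' : EtCoh.Ab S} (e : G ⟶ G') [Epi e] :
    Function.Surjective (e.hom.app (op (EtCoh.top S))) := by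
  intro s
  haveI : Sheaf.IsLocallySurjective e := (Sheaf.isLocallySurjective_iff_epi' _ e).2 inferInstance
  choose g hg hR using fun x : S =>
    exists_basicOpen_mem S h1 h2 _ (Presheaf.imageSieve_mem S.smallEtaleTopology e.hom s) x
  haveI : CompactSpace S := by infer_instance
  obtain ⟨T, hT⟩ := isCompact_univ.elim_finite_subcover (fun x : S => (S.basicOpen (g x) : Set S))
    (fun x => (S.basicOpen (g x)).2) (fun x _ => Set.mem_iUnion.2 ⟨x, hg x⟩)
  classical
  let n := T.card
  let a : Fin n → S := fun i => (T.equivFin.symm i).1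
  let W : Fin n → S.Opens := fun i =>
    ⟨(S.basicOpen (g (a i)) : Set S) \ ⋃ j : {j : Fin n // j < i}, (S.basicOpen (g (a j.1)) : Set S),
      (S.basicOpen (g (a i))).2.sdiff (isClosed_iUnion_of_finite fun j => isClosed_basicOpen S h1 _)⟩
  have hW : ∀ i, W i ≤ S.basicOpen (g (a i)) := fun i x hx => hx.1
  choose t ht using fun i => hR (a i)
  let ι : ∀ i, EtPtsLib.openSub (EtCoh.top S) (W i) ⟶ EtPtsLib.openSub (EtCoh.top S) (S.basicOpen (g (a i))) :=
    fun i => MorphismProperty.Over.homMk (S.homOfLE (hW i)) (by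
      show S.homOfLE (hW i) ≫ (S.basicOpen (g (a i))).ι ≫ 𝟙 S = (W i).ι ≫ 𝟙 S
      simp)
  let FG : Sheaf S.smallEtaleTopology (Type (u + 1)) := (sheafCompose _ (forget AddCommGrpCat.{u + 1})).obj G
  let FG' : Sheaf S.smallEtaleTopology (Type (u + 1)) := (sheafCompose _ (forget AddCommGrpCat.{u + 1})).obj G'
  have hcov : ∀ x : S, ∃ i, x ∈ W i := fun x => by
    have hx : ∃ i, x ∈ S.basicOpen (g (a i)) := by
      obtain ⟨b, hbT, hb⟩ := Set.mem_iUnion₂.1 (hT (Set.mem_univ x))
      exact ⟨T.equivFin ⟨b, hbT⟩, by simpa [a] using hb⟩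
    refine ⟨Fin.find _ hx, Fin.find_spec hx, fun h => ?_⟩
    obtain ⟨⟨j, hj⟩, hxj⟩ := Set.mem_iUnion.1 h
    exact not_le.2 hj (Fin.find_le_of_pos hx hxj)
  have hd : ∀ i j, i ≠ j → Disjoint (W i) (W j) := fun i j hij => by
    rw [← TopologicalSpace.Opens.coe_disjoint, Set.disjoint_left]
    intro x hxi hxj
    rcases lt_or_gt_of_ne hij with h | h
    · exact hxj.2 (Set.mem_iUnion.2 ⟨⟨i, h⟩, hxi.1⟩)
    · exact hxi.2 (Set.mem_iUnion.2 ⟨⟨j, h⟩, hxj.1⟩)
  obtain ⟨t₀, ht₀⟩ := EtPtsLib.exists_glue FG (EtCoh.top S) W hd hcov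
    fun i => G.obj.map (ι i).op (t i)
  refine ⟨t₀, EtPtsLib.sect_eq_of_cover FG' (EtCoh.top S) _ _ fun x => ?_⟩
  obtain ⟨i, hi⟩ := hcov x
  refine ⟨_, EtPtsLib.openIncl (EtCoh.top S) (W i), (⟨x, hi⟩ : (W i).toScheme), rfl, ?_⟩
  show G'.obj.map _ (e.hom.app _ t₀) = G'.obj.map _ s
  rw [← NatTrans.naturality_apply e.hom]
  have h3 : G.obj.map (EtPtsLib.openIncl (EtCoh.top S) (W i)).op t₀ = G.obj.map (ι i).op (t i) := ht₀ i
  rw [h3, NatTrans.naturality_apply e.hom, ht i, ← ConcreteCategory.comp_apply, ← Functor.map_comp,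
    ← op_comp]
  rw [(isTerminalTop S).hom_ext (ι i ≫ EtPtsLib.openIncl (EtCoh.top S) (S.basicOpen (g (a i))))
    (EtPtsLib.openIncl (EtCoh.top S) (W i))]

end Groth.Agent.EtSplitLib
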